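import Cfsg.Agent.Lib.RootGrp.RankOne

/-!
The lemma on lines (of two members not in rank one position to a partner), and the connected
components of the graph of rank one pairs.
-/

set_option autoImplicit false

namespace Cfsg.Agent.RootGrp

open Cfsg
open scoped commutatorElement

variable {G : Type*} [Group G]

theorem members_pair {A B : Subgroup G} (h : IsRankOnePair A B) {C D : Subgroup G}
    (hC : C ∈ unipotentSubgroups A B) (hD : D ∈ unipotentSubgroups A B) (hne : C ≠ D) :
    IsRankOnePair C D := by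
  obtain ⟨x, -, rfl, rfl⟩ := exists_conj_pair h hC hD hne
  have hcond : ∀ P Q : Subgroup G, RankOneCondition P Q → RankOneCondition (conjBy P x) (conjBy Q x) := by
    rintro P Q hPQ _ ⟨a, ha, rfl⟩ ha1
    obtain ⟨b, hb, hb1, e⟩ := hPQ a ha (fun e => ha1 (by rw [e]; exact map_one _))
    refine ⟨x * b * x⁻¹, ⟨b, hb, rfl⟩, fun e1 => hb1 (conj_eq_one_iff.1 e1), ?_⟩
    show conjBy (conjBy P x) (x * b * x⁻¹)⁻¹ = conjBy (conjBy Q x) (x * a * x⁻¹)⁻¹
    rw [conjBy_conjBy, conjBy_conjBy, show (x * b * x⁻¹)⁻¹ * x = x * b⁻¹ by group,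
      show (x * a * x⁻¹)⁻¹ * x = x * a⁻¹ by group, ← conjBy_conjBy, e, conjBy_conjBy]
  haveI := h.nilpotent_left
  haveI := h.nilpotent_right
  exact ⟨hne,
    Group.nilpotent_of_surjective _ (MonoidHom.subgroupMap_surjective (MulAut.conj x).toMonoidHom A),
    Group.nilpotent_of_surjective _ (MonoidHom.subgroupMap_surjective (MulAut.conj x).toMonoidHom B),
    hcond A B h.cond_left, hcond B A h.cond_right⟩

/-- Conjugating a rank one pair. -/
theorem pair_conj {A B : Subgroup G} (h : IsRankOnePair A B) (x : G) :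
    IsRankOnePair (conjBy A x) (conjBy B x) := by
  have hcond : ∀ P Q : Subgroup G, RankOneCondition P Q → RankOneCondition (conjBy P x) (conjBy Q x) := by
    rintro P Q hPQ _ ⟨a, ha, rfl⟩ ha1
    obtain ⟨b, hb, hb1, e⟩ := hPQ a ha (fun e => ha1 (by rw [e]; exact map_one _))
    refine ⟨x * b * x⁻¹, ⟨b, hb, rfl⟩, fun e1 => hb1 (conj_eq_one_iff.1 e1), ?_⟩
    show conjBy (conjBy P x) (x * b * x⁻¹)⁻¹ = conjBy (conjBy Q x) (x * a * x⁻¹)⁻¹
    rw [conjBy_conjBy, conjBy_conjBy, show (x * b * x⁻¹)⁻¹ * x = x * b⁻¹ by group,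
      show (x * a * x⁻¹)⁻¹ * x = x * a⁻¹ by group, ← conjBy_conjBy, e, conjBy_conjBy]
  haveI := h.nilpotent_left
  haveI := h.nilpotent_right
  exact ⟨fun e => h.ne (conjBy_inj e),
    Group.nilpotent_of_surjective _ (MonoidHom.subgroupMap_surjective (MulAut.conj x).toMonoidHom A),
    Group.nilpotent_of_surjective _ (MonoidHom.subgroupMap_surjective (MulAut.conj x).toMonoidHom B),
    hcond A B h.cond_left, hcond B A h.cond_right⟩

variable {S : Set (Subgroup G)} (hS : IsRootSubgroupSet S)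
include hS

/-- If `(B, P)` is no rank one pair, all commutators of `B` with `P` commute with `P`; and they lie
in a member of `S` as soon as one of them is non-trivial. -/
theorem commutator_comm {B P : Subgroup G} (hB : B ∈ S) (hP : P ∈ S) (hn : ¬ IsRankOnePair B P) :
    (∀ w ∈ ⁅B, P⁆, ∀ p ∈ P, w * p = p * w) ∧
    (⁅B, P⁆ = ⊥ ∨ ⁅B, P⁆ ∈ S ∧
      ∀ b ∈ B, b ≠ 1 → Subgroup.closure ((fun p : G => b * p * b⁻¹ * p⁻¹) '' (P : Set G)) = ⁅B, P⁆) := by
  rcases hS.pair B hB P hP with h | h | ⟨hm, hc, hg, -⟩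
  · refine ⟨fun w hw p _ => ?_, Or.inl h⟩
    rw [h, Subgroup.mem_bot] at hw
    rw [hw, one_mul, mul_one]
  · exact absurd h hn
  · exact ⟨fun w hw p hp => hc w hw p (Subgroup.mem_sup_right hp), Or.inr ⟨hm, hg⟩⟩

/-- The lemma on lines. -/
theorem line_avoid {A P B C : Subgroup G} (hA : A ∈ S) (hP : P ∈ S) (hB : B ∈ S) (hC : C ∈ S)
    (hAP : IsRankOnePair A P) (hBP : ¬ IsRankOnePair B P) (hCP : ¬ IsRankOnePair C P)
    {a b x : G} (ha : a ∈ A) (ha1 : a ≠ 1) (hb : b ∈ B) (hx : x ∈ C) (e : a = b * x) : False := by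
  obtain ⟨hWc, hW⟩ := commutator_comm hS hB hP hBP
  obtain ⟨hUc, hU⟩ := commutator_comm hS hC hP hCP
  set W := ⁅B, P⁆
  set U := ⁅C, P⁆
  -- it suffices that the commutators of `U` and `W` commute with `P` after conjugation by `b`
  have main : (∀ u ∈ U, ∀ w ∈ W, ∀ p ∈ P, (b * ⁅u, w⁆ * b⁻¹) * p = p * (b * ⁅u, w⁆ * b⁻¹)) → False := by
    intro hM
    have hQne : conjBy P a ≠ P := fun e => ha1 (eq_one_of_normalizes hAP ha e)
    have hQmem := conj_mem_unipotent hAP (right_mem hAP) (Subgroup.mem_sup_left ha)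
    obtain ⟨q, hq, hq1⟩ : ∃ q ∈ conjBy P a, q ≠ 1 := by
      by_contra hc
      push_neg at hc
      exact hS.ne_bot _ (hS.conj_mem P hP a) (Subgroup.eq_bot_iff_forall _ |>.2 hc)
    -- commutators of `q` with `P` centralise `P`
    have hcomm := conj_commutes hS hP (Z := Subgroup.centralizer (P : Set G)) (g := q)
      (fun z hz c hc => ((Subgroup.mem_centralizer_iff.1 hz) c hc).symm) (fun p' hp' => by
        obtain ⟨p, hp, rfl⟩ := hq
        rw [Subgroup.mem_centralizer_iff]
        intro r hr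
        set u := x * p * x⁻¹ * p⁻¹ with hu
        have huU : u ∈ U := Subgroup.commutator_mem_commutator hx hp
        set w := b⁻¹ * p' * b * p'⁻¹ with hw
        have hwW : w ∈ W := by
          have := Subgroup.commutator_mem_commutator (inv_mem hb) hp'
          rw [commutatorElement_def, inv_inv] at this
          exact this
        have hup : Commute u p := hUc u huU p hp
        have hup' : Commute u p' := hUc u huU p' hp'
        have hwp : Commute w p := hWc w hwW p hp
        have hwp' : Commute w p' := hWc w hwW p' hp'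
        have hpp : Commute p p' := mul_comm_of_mem hS hP hp hp'
        have key : (a * p * a⁻¹) * p' * (a * p * a⁻¹)⁻¹ * p'⁻¹ = b * ⁅u, w⁆ * b⁻¹ := by
          have e1 : a * p * a⁻¹ = b * (u * p) * b⁻¹ := by rw [e, hu]; group
          have e2 : p' = b * (w * p') * b⁻¹ := by rw [hw]; group
          calc (a * p * a⁻¹) * p' * (a * p * a⁻¹)⁻¹ * p'⁻¹
              = (b * (u * p) * b⁻¹) * (b * (w * p') * b⁻¹) * (b * (u * p) * b⁻¹)⁻¹ *
                  (b * (w * p') * b⁻¹)⁻¹ := by rw [← e1, ← e2]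
            _ = b * ((u * p) * (w * p') * (p⁻¹ * u⁻¹) * (p'⁻¹ * w⁻¹)) * b⁻¹ := by group
            _ = b * ⁅u, w⁆ * b⁻¹ := by
              congr 2
              rw [commutatorElement_def]
              calc (u * p) * (w * p') * (p⁻¹ * u⁻¹) * (p'⁻¹ * w⁻¹)
                  = u * (p * w) * (p' * p⁻¹) * (u⁻¹ * p'⁻¹) * w⁻¹ := by group
                _ = u * (w * p) * (p⁻¹ * p') * (p'⁻¹ * u⁻¹) * w⁻¹ := by
                  rw [hwp.eq, hpp.inv_left.eq, hup'.inv_inv.eq]
                _ = u * w * u⁻¹ * w⁻¹ := by group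
        show r * ((a * p * a⁻¹) * p' * (a * p * a⁻¹)⁻¹ * p'⁻¹) = ((a * p * a⁻¹) * p' * (a * p * a⁻¹)⁻¹ * p'⁻¹) * r
        rw [key]
        exact (hM u huU w hwW r hr).symm)
    by_cases en : conjBy P q = P
    · exact hq1 (eq_one_of_normalizes' hAP hQmem (right_mem hAP) hQne hq en)
    · exact not_commute_members hAP (conj_mem_unipotent hAP (right_mem hAP) (unipotent_le hAP hQmem hq))
        (right_mem hAP) en hcomm
  have triv : (∀ u ∈ U, ∀ w ∈ W, u * w = w * u) → False := fun h => main fun u hu w hw p _ => by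
    rw [commutatorElement_eq_one_iff_mul_comm.2 (h u hu w hw)]; simp
  rcases hW with hW | ⟨hWS, hgW⟩
  · exact triv fun u _ w hw => by rw [hW, Subgroup.mem_bot] at hw; rw [hw, one_mul, mul_one]
  rcases hU with hU | ⟨hUS, -⟩
  · exact triv fun u hu w _ => by rw [hU, Subgroup.mem_bot] at hu; rw [hu, one_mul, mul_one]
  by_cases hb1 : b = 1
  · apply main
    intro u hu w hw p hp
    rw [hb1]
    simp only [one_mul, inv_one, mul_one]
    have h1 : Commute u p := hUc u hu p hp
    have h2 : Commute w p := hWc w hw p hp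
    exact (((h1.mul_left h2).mul_left h1.inv_left).mul_left h2.inv_left).eq
  set Q := conjBy P b⁻¹
  have hQS : Q ∈ S := hS.conj_mem P hP b⁻¹
  -- the elements of `Q`
  have hQe : ∀ p ∈ P, b⁻¹ * p * b ∈ Q := fun p hp => ⟨p, hp, by simp⟩
  have hQw : ∀ p ∈ P, (b⁻¹ * p * b * p⁻¹) ∈ W := fun p hp => by
    have := Subgroup.commutator_mem_commutator (inv_mem hb) hp
    rw [commutatorElement_def, inv_inv] at this
    exact this
  have hgen : W ≤ Subgroup.closure ((fun p : G => b⁻¹ * p * b * p⁻¹) '' (P : Set G)) := by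
    rw [← hgW b⁻¹ (inv_mem hb) (inv_ne_one.2 hb1)]
    simp only [inv_inv]; exact le_rfl
  rcases hS.pair U hUS W hWS with h1 | hr | ⟨-, hc, -, -⟩
  · exact triv fun u hu w hw => commute_of_bot h1 hu hw
  rotate_left
  · apply main
    intro u hu w hw p hp
    have hm : ⁅u, w⁆ ∈ ⁅U, W⁆ := Subgroup.commutator_mem_commutator hu hw
    have c1 : Commute ⁅u, w⁆ (b⁻¹ * p * b * p⁻¹) := hc _ hm _ (Subgroup.mem_sup_right (hQw p hp))
    have c2 : Commute ⁅u, w⁆ p := by
      rw [commutatorElement_def]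
      exact (((show Commute u p from hUc u hu p hp).mul_left (hWc w hw p hp)).mul_left
        (show Commute u p from hUc u hu p hp).inv_left).mul_left (show Commute w p from hWc w hw p hp).inv_left
    have c3 := c1.mul_right c2
    rw [inv_mul_cancel_right] at c3
    calc b * ⁅u, w⁆ * b⁻¹ * p = b * (⁅u, w⁆ * (b⁻¹ * p * b)) * b⁻¹ := by group
      _ = b * ((b⁻¹ * p * b) * ⁅u, w⁆) * b⁻¹ := by rw [c3.eq]
      _ = p * (b * ⁅u, w⁆ * b⁻¹) := by group
  · obtain ⟨u, hu, hu1⟩ := exists_left hr
    rcases hS.pair U hUS Q hQS with h2 | hs | ⟨-, hcT, -, -⟩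
    · refine hu1 (eq_one_of_centralizes hr hu fun w hw => ?_)
      have hle : Subgroup.closure ((fun p : G => b⁻¹ * p * b * p⁻¹) '' (P : Set G)) ≤
          Subgroup.centralizer {u} := by
        rw [Subgroup.closure_le]
        rintro _ ⟨p, hp, rfl⟩
        rw [SetLike.mem_coe, Subgroup.mem_centralizer_singleton_iff]
        exact ((show Commute u (b⁻¹ * p * b) from commute_of_bot h2 hu (hQe p hp)).mul_right
          (show Commute u p from hUc u hu p hp).inv_right).eq.symm
      exact (Subgroup.mem_centralizer_singleton_iff.1 (hle (hgen hw))).symm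
    · obtain ⟨q, hq, -, eq⟩ := hs.cond_left u hu hu1
      obtain ⟨p₀, hp₀, hq0⟩ : ∃ p₀ ∈ P, b⁻¹ * p₀ * b = q := by
        obtain ⟨p₀, hp₀, rfl⟩ := hq; exact ⟨p₀, hp₀, by simp⟩
      set w₀ := b⁻¹ * p₀ * b * p₀⁻¹
      have hU0 : conjBy U q⁻¹ = conjBy U w₀⁻¹ := by
        have : q⁻¹ = w₀⁻¹ * p₀⁻¹ := by
          rw [← hq0, ← mul_inv_rev]
          congr 1
          rw [← (show Commute w₀ p₀ from hWc _ (hQw p₀ hp₀) p₀ hp₀).eq, inv_mul_cancel_right]
        rw [this, ← conjBy_conjBy, conjBy_of_commute (g := p₀⁻¹)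
          fun v hv => ((show Commute v p₀ from hUc v hv p₀ hp₀).inv_right).eq.symm]
      rw [hU0, eq_comm, conjBy_eq_iff, inv_inv, conjBy_conjBy] at eq
      have hQmem : Q ∈ unipotentSubgroups U W :=
        ⟨u * w₀⁻¹, mul_mem (Subgroup.mem_sup_left hu) (inv_mem (Subgroup.mem_sup_right (hQw p₀ hp₀))), eq⟩
      obtain ⟨p, hp, hp1⟩ := exists_left (RankOnePair_symm hAP)
      have hqX : b⁻¹ * p * b ∈ U ⊔ W := unipotent_le hr hQmem (hQe p hp)
      have hle : U ⊔ W ≤ Subgroup.centralizer {p} := sup_le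
        (fun v hv => Subgroup.mem_centralizer_singleton_iff.2 (hUc v hv p hp))
        (fun v hv => Subgroup.mem_centralizer_singleton_iff.2 (hWc v hv p hp))
      have hpc : ∀ y ∈ W ⊔ U, y * p = p * y := fun y hy =>
        Subgroup.mem_centralizer_singleton_iff.1 (hle (sup_comm W U ▸ hy))
      by_cases hw1 : b⁻¹ * p * b * p⁻¹ = 1
      · rw [mul_inv_eq_one] at hw1
        refine hp1 (eq_one_of_centralizes (RankOnePair_symm hs) (hw1 ▸ hQe p hp) fun v hv => ?_)
        exact (hpc v (Subgroup.mem_sup_right hv)).symm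
      · refine central_translate hS hWS hUS (RankOnePair_symm hr) hpc hp1 (hQw p hp) hw1 ?_
        have e3 : p * (b⁻¹ * p * b * p⁻¹) = b⁻¹ * p * b := by
          rw [← (show Commute (b⁻¹ * p * b * p⁻¹) p from hWc _ (hQw p hp) p hp).eq, inv_mul_cancel_right]
        rw [e3]
        refine ⟨fun h1 => hp1 ?_, Q, hQS, hQe p hp⟩
        calc p = b * (b⁻¹ * p * b) * b⁻¹ := by group
          _ = 1 := by rw [h1, mul_one, mul_inv_cancel]
    · -- all commutators of `u` with `W` lie in the centre
      set T := ⁅U, Q⁆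
      have hTP : ∀ t ∈ T, ∀ p ∈ P, t * p = p * t := by
        have hle : T ≤ Subgroup.centralizer (P : Set G) := by
          refine Subgroup.commutator_le.2 fun v hv q hq => ?_
          obtain ⟨p, hp, rfl⟩ := hq
          rw [Subgroup.mem_centralizer_iff]
          intro r hr'
          have c1 : Commute v r := hUc v hv r hr'
          have c2 : Commute (b⁻¹ * p * b * p⁻¹ * p) r :=
            (show Commute (b⁻¹ * p * b * p⁻¹) r from hWc _ (hQw p hp) r hr').mul_left
              (mul_comm_of_mem hS hP hp hr')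
          rw [inv_mul_cancel_right] at c2
          have := (((c1.mul_left c2).mul_left c1.inv_left).mul_left c2.inv_left).eq.symm
          simpa [commutatorElement_def, mul_assoc] using this
        exact fun t ht p hp => ((Subgroup.mem_centralizer_iff.1 (hle ht)) p hp).symm
      have hTW : ∀ t ∈ T, ∀ w ∈ W, t * w = w * t := by
        intro t ht w hw
        have hle : Subgroup.closure ((fun p : G => b⁻¹ * p * b * p⁻¹) '' (P : Set G)) ≤
            Subgroup.centralizer {t} := by
          rw [Subgroup.closure_le]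
          rintro _ ⟨p, hp, rfl⟩
          rw [SetLike.mem_coe, Subgroup.mem_centralizer_singleton_iff]
          exact ((show Commute t (b⁻¹ * p * b) from hcT t ht _ (Subgroup.mem_sup_right (hQe p hp))).mul_right
            (show Commute t p from hTP t ht p hp).inv_right).eq.symm
        exact (Subgroup.mem_centralizer_singleton_iff.1 (hle (hgen hw))).symm
      have hin' : ∀ w ∈ Subgroup.closure ((fun p : G => b⁻¹ * p * b * p⁻¹) '' (P : Set G)),
          u * w * u⁻¹ * w⁻¹ ∈ T := by
        intro w hw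
        induction hw using Subgroup.closure_induction with
        | mem y hy =>
          obtain ⟨p, hp, rfl⟩ := hy
          have hm := Subgroup.commutator_mem_commutator hu (hQe p hp)
          have c1 : Commute u⁻¹ p⁻¹ := (show Commute u p from hUc u hu p hp).inv_inv
          convert hm using 1
          rw [commutatorElement_def]
          calc u * (b⁻¹ * p * b * p⁻¹) * u⁻¹ * (b⁻¹ * p * b * p⁻¹)⁻¹
              = u * (b⁻¹ * p * b) * (p⁻¹ * u⁻¹) * (p * (b⁻¹ * p * b)⁻¹) := by group
            _ = u * (b⁻¹ * p * b) * (u⁻¹ * p⁻¹) * (p * (b⁻¹ * p * b)⁻¹) := by rw [c1.eq]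
            _ = u * (b⁻¹ * p * b) * u⁻¹ * (b⁻¹ * p * b)⁻¹ := by group
        | one => simp
        | mul y z hy hz ihy ihz =>
          have hyW : y ∈ W := by
            have hle' : Subgroup.closure ((fun p : G => b⁻¹ * p * b * p⁻¹) '' (P : Set G)) ≤ W :=
              (Subgroup.closure_le W).2 (by rintro _ ⟨p, hp, rfl⟩; exact hQw p hp)
            exact hle' hy
          have e1 : u * (y * z) * u⁻¹ * (y * z)⁻¹ = (u * y * u⁻¹ * y⁻¹) * (y * (u * z * u⁻¹ * z⁻¹) * y⁻¹) := by group
          rw [e1, ← hTW _ ihz y hyW, mul_inv_cancel_right]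
          exact mul_mem ihy ihz
        | inv y hy ih =>
          have hyW : y ∈ W := by
            have hle' : Subgroup.closure ((fun p : G => b⁻¹ * p * b * p⁻¹) '' (P : Set G)) ≤ W :=
              (Subgroup.closure_le W).2 (by rintro _ ⟨p, hp, rfl⟩; exact hQw p hp)
            exact hle' hy
          have e1 : u * y⁻¹ * u⁻¹ * y⁻¹⁻¹ = y⁻¹ * (u * y * u⁻¹ * y⁻¹)⁻¹ * y := by group
          rw [e1, mul_assoc, hTW _ (inv_mem ih) y hyW, inv_mul_cancel_left]
          exact inv_mem ih
      have hcomm := conj_commutes hS hWS (Z := T) (g := u) hTW fun w hw => hin' w (hgen hw)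
      by_cases en : conjBy W u = W
      · exact hu1 (eq_one_of_normalizes hr hu en)
      · exact not_commute_members hr (conj_mem_unipotent hr (right_mem hr) (Subgroup.mem_sup_left hu))
          (right_mem hr) en hcomm

end Cfsg.Agent.RootGrp
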