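import Cfsg.Agent.Lib.RootGrp.RankOne
import Cfsg.Prelude.Def_CaseTheorems
import Mathlib

/-! Rank one groups with a quadratic action. -/

set_option autoImplicit false

namespace Cfsg.Agent.RootGrp.Quadratic

open Cfsg Cfsg.Agent.RootGrp
open scoped commutatorElement

variable {X : Type*} [Group X] {A B : Subgroup X}

theorem conjBy_comm {g : X} (hA : ∀ x ∈ A, ∀ y ∈ A, x * y = y * x) (e : conjBy A g = B) :
    ∀ x ∈ B, ∀ y ∈ B, x * y = y * x := by
  intro x hx y hy
  rw [← e, mem_conjBy] at hx hy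
  have := hA _ hx _ hy
  calc x * y = g * ((g⁻¹ * x * g) * (g⁻¹ * y * g)) * g⁻¹ := by group
    _ = g * ((g⁻¹ * y * g) * (g⁻¹ * x * g)) * g⁻¹ := by rw [this]
    _ = _ := by group

theorem commutator_le_normal (h : IsRankOneGroup X A B) (hA : ∀ x ∈ A, ∀ y ∈ A, x * y = y * x)
    (N : Subgroup X) [N.Normal] {z : X} (hz : z ∈ A) (hz1 : z ≠ 1) (hzN : z ∈ N) :
    commutator X ≤ N := by
  obtain ⟨b, hb, -, e⟩ := h.2.cond_left z hz hz1
  obtain ⟨g, -, hg⟩ := exists_conj_right h.2
  have hB := conjBy_comm hA hg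
  have hsub : A.map (QuotientGroup.mk' N) ≤ B.map (QuotientGroup.mk' N) := by
    rintro _ ⟨x, hx, rfl⟩
    have hmem : b⁻¹ * x * b⁻¹⁻¹ ∈ conjBy B z⁻¹ := by
      rw [← e, mem_conjBy]
      simpa [mul_assoc] using hx
    rw [mem_conjBy, inv_inv] at hmem
    have hzq : QuotientGroup.mk' N z = 1 := (QuotientGroup.eq_one_iff z).mpr hzN
    have hbm := Subgroup.mem_map_of_mem (QuotientGroup.mk' N) hmem
    have hbb := Subgroup.mem_map_of_mem (QuotientGroup.mk' N) hb
    have := Subgroup.mul_mem _ (Subgroup.mul_mem _ hbb hbm) (Subgroup.inv_mem _ hbb)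
    simpa [map_mul, map_inv, hzq, mul_assoc] using this
  have htop : B.map (QuotientGroup.mk' N) = ⊤ := by
    rw [eq_top_iff, ← Subgroup.map_top_of_surjective _ (QuotientGroup.mk'_surjective N), ← h.1,
      Subgroup.map_sup]
    exact sup_le hsub le_rfl
  rw [commutator_def, Subgroup.commutator_le]
  intro g1 _ g2 _
  obtain ⟨b1, hb1, e1⟩ := Subgroup.mem_map.mp (htop.ge (Subgroup.mem_top (QuotientGroup.mk' N g1)))
  obtain ⟨b2, hb2, e2⟩ := Subgroup.mem_map.mp (htop.ge (Subgroup.mem_top (QuotientGroup.mk' N g2)))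
  apply (QuotientGroup.eq_one_iff _).mp
  show QuotientGroup.mk' N ⁅g1, g2⁆ = 1
  rw [map_commutatorElement, ← e1, ← e2, ← map_commutatorElement,
    commutatorElement_eq_one_iff_mul_comm.mpr (hB b1 hb1 b2 hb2), map_one]

/-- An element of `A` of order `p` cannot act on an abelian normal subgroup of exponent `p`
containing all commutators. -/
theorem no_small_commutator (h : IsRankOneGroup X A B) {p : ℕ} (hp : p.Prime) {a : X}
    (ha : a ∈ A) (ha1 : a ≠ 1) (hap : a ^ p = 1)
    (hcomm : ∀ x ∈ commutator X, ∀ y ∈ commutator X, x * y = y * x)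
    (hexp : ∀ x ∈ commutator X, x ^ p = 1) : False := by
  classical
  let D := commutator X
  letI : CommGroup D := { (inferInstance : Group D) with
    mul_comm := fun x y => Subtype.ext (hcomm x.1 x.2 y.1 y.2) }
  have hstep : ∀ m ∈ commutator X, conjBy A ⁅a, m⁆ = A → conjBy A m = A := by
    intro m hm hc
    have hcm : ⁅a, m⁆ ∈ commutator X := Subgroup.commutator_mem_commutator
      (Subgroup.mem_top a) (Subgroup.mem_top m)
    have hfix : conjBy (conjBy A m) a = conjBy A m := by
      rw [conjBy_conjBy, show a * m = ⁅a, m⁆ * m * a by rw [commutatorElement_def]; group,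
        ← conjBy_conjBy A a, conjBy_of_mem ha, hcomm _ hcm _ hm, ← conjBy_conjBy, hc]
    rcases unipotent_cases h.2 (conj_mem_unipotent h.2 (left_mem h.2)
      (h.1.ge (Subgroup.mem_top m))) with e | ⟨z, hz, e⟩
    · exact e
    · exfalso
      rw [e, conjBy_conjBy] at hfix
      have h2 := congrArg (fun C => conjBy C z⁻¹) hfix
      simp only [conjBy_conjBy, inv_mul_cancel, conjBy_one] at h2
      have := eq_one_of_normalizes h.2 (mul_mem (inv_mem hz) (mul_mem ha hz)) h2
      apply ha1
      calc a = z * (z⁻¹ * (a * z)) * z⁻¹ := by group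
        _ = 1 := by rw [this]; group
  let φ : AddMonoid.End (Additive D) :=
    MonoidHom.toAdditive (MulDistribMulAction.toMonoidHom D (ConjAct.toConjAct a))
  have hφ : ∀ m : Additive D, ((φ m).toMul : X) = a * (m.toMul : X) * a⁻¹ := fun m => rfl
  have hpowφ : ∀ (n : ℕ) (m : Additive D),
      (((φ ^ n) m).toMul : X) = a ^ n * (m.toMul : X) * (a ^ n)⁻¹ := by
    intro n
    induction n with
    | zero => intro m; simp
    | succ n ih =>
      intro m
      rw [pow_succ']
      show ((φ ((φ ^ n) m)).toMul : X) = _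
      rw [hφ, ih, pow_succ']; group
  have hchar : (p : AddMonoid.End (Additive D)) = 0 := by
    refine AddMonoidHom.ext fun m => Additive.toMul.injective (Subtype.ext ?_)
    exact hexp _ m.toMul.2
  have hnil : (φ - 1) ^ p = 0 := by
    obtain ⟨r, hr⟩ := (Commute.one_right (φ - 1)).exists_add_pow_prime_eq hp
    rw [sub_add_cancel, one_pow, hchar, zero_mul, zero_mul, zero_mul, add_zero] at hr
    have h1 : φ ^ p = 1 := by
      refine AddMonoidHom.ext fun m => Additive.toMul.injective (Subtype.ext ?_)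
      exact (hpowφ p m).trans (by rw [hap]; simp; rfl)
    rw [h1] at hr
    simpa using hr.symm
  have hall : ∀ (j : ℕ) (m : Additive D), ((φ - 1) ^ j) m = 0 → conjBy A (m.toMul : X) = A := by
    intro j
    induction j with
    | zero =>
      intro m hm
      have : m = 0 := hm
      rw [this]
      exact conjBy_one A
    | succ j ih =>
      intro m hm
      rw [pow_succ] at hm
      have := ih ((φ - 1) m) hm
      refine hstep _ m.toMul.2 ?_
      convert this using 2
      show ⁅a, (m.toMul : X)⁆ = ((φ m - m).toMul : X)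
      rw [commutatorElement_def, ← hφ m, toMul_sub, Subgroup.coe_div, div_eq_mul_inv]
  have hD : ∀ c ∈ commutator X, conjBy A c = A := fun c hc =>
    hall p (Additive.ofMul ⟨c, hc⟩) (by rw [hnil]; rfl)
  obtain ⟨g, -, hg⟩ := exists_conj_right h.2
  have hB : ∀ y ∈ B, y = 1 := by
    intro y hy
    refine eq_one_of_normalizes (RankOnePair_symm h.2) hy ?_
    rw [← hg, mem_conjBy] at hy
    rw [show y = ⁅g, g⁻¹ * y * g⁆ * (g⁻¹ * y * g) by rw [commutatorElement_def]; group,
      ← conjBy_conjBy, conjBy_of_mem hy]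
    exact hD _ (Subgroup.commutator_mem_commutator (Subgroup.mem_top _) (Subgroup.mem_top _))
  have := hB (g * a * g⁻¹) (by rw [← hg, mem_conjBy]; simpa [mul_assoc] using ha)
  exact ha1 (conj_eq_one_iff.mp this)

section Action

variable {V : Type*} [AddCommGroup V] [DistribMulAction X V]
variable (hq : ∀ a ∈ A, ∀ a' ∈ A, ∀ v : V, a' • (a • v - v) = a • v - v)
include hq

theorem quad_pow {a : X} (ha : a ∈ A) (v : V) : ∀ n : ℕ, a ^ n • v = v + n • (a • v - v) := by
  intro n
  induction n with
  | zero => simp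
  | succ n ih =>
    rw [pow_succ', mul_smul, ih, smul_add, smul_comm a n (a • v - v), hq a ha a ha v, succ_nsmul]
    abel

theorem comm_of_faithful (hf : ∀ x : X, (∀ v : V, x • v = v) → x = 1) :
    ∀ x ∈ A, ∀ y ∈ A, x * y = y * x := by
  intro x hx y hy
  refine inv_mul_eq_one.mp (hf _ fun v => ?_)
  rw [mul_smul, inv_smul_eq_iff, mul_smul, mul_smul]
  have h1 := hq y hy x hx v
  have h2 := hq x hx y hy v
  rw [smul_sub, sub_eq_iff_eq_add] at h1 h2
  rw [h1, h2]
  abel

theorem dichotomy (h : IsRankOneGroup X A B) (hf : ∀ x : X, (∀ v : V, x • v = v) → x = 1) :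
    (∀ a ∈ A, a ≠ 1 → ¬ IsOfFinOrder a) ∨
      ∃ p : ℕ, p.Prime ∧ (∀ x ∈ A, ∀ y ∈ A, x * y = y * x) ∧ ∀ x ∈ A, x ^ p = 1 := by
  have hA := comm_of_faithful hq hf
  by_cases htor : ∃ a ∈ A, a ≠ 1 ∧ IsOfFinOrder a
  swap
  · left; intro a ha h1 h2; exact htor ⟨a, ha, h1, h2⟩
  right
  obtain ⟨a0, ha0, h01, h02⟩ := htor
  have hr : orderOf a0 ≠ 1 := fun e => h01 (orderOf_eq_one_iff.mp e)
  obtain ⟨q, hpq⟩ : (orderOf a0).minFac ∣ orderOf a0 := Nat.minFac_dvd _
  set p := (orderOf a0).minFac
  have hp : p.Prime := Nat.minFac_prime hr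
  refine ⟨p, hp, hA, fun x hx => ?_⟩
  by_contra hxp
  set a := a0 ^ q with hadef
  have ha : a ∈ A := pow_mem ha0 q
  have hap : a ^ p = 1 := by rw [hadef, ← pow_mul, mul_comm, ← hpq, pow_orderOf_eq_one]
  have ha1 : a ≠ 1 := by
    intro e
    have hd := orderOf_dvd_of_pow_eq_one (hadef ▸ e)
    have hpos := h02.orderOf_pos
    rw [hpq] at hd hpos
    have hq0 : 0 < q := pos_of_mul_pos_right hpos (Nat.zero_le _)
    have := Nat.le_of_dvd hq0 hd
    have := Nat.mul_le_mul_right q hp.two_le
    omega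
  let N1 : Subgroup X :=
    { carrier := {g | ∀ v : V, p • v = 0 → g • v = v}
      one_mem' := fun v _ => one_smul X v
      mul_mem' := fun {g k} hg hk v hv => by rw [mul_smul, hk v hv, hg v hv]
      inv_mem' := fun {g} hg v hv => by rw [inv_smul_eq_iff, hg v hv] }
  let N2 : Subgroup X :=
    { carrier := {g | ∀ v : V, p • (g • v - v) = 0}
      one_mem' := fun v => by simp
      mul_mem' := fun {g k} hg hk v => by
        have := hg (k • v)
        rw [mul_smul, show g • k • v - v = (g • k • v - k • v) + (k • v - v) by abel, smul_add,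
          this, hk v, add_zero]
      inv_mem' := fun {g} hg v => by
        have := hg (g⁻¹ • v)
        rw [smul_inv_smul] at this
        rw [← neg_sub, smul_neg, this, neg_zero] }
  haveI : N1.Normal := ⟨fun n hn g v hv => by
    rw [mul_smul, mul_smul, hn (g⁻¹ • v) (by rw [← smul_comm, hv, smul_zero]), smul_inv_smul]⟩
  haveI : N2.Normal := ⟨fun n hn g v => by
    have := congrArg (g • ·) (hn (g⁻¹ • v))
    simp only [smul_comm g p, smul_sub, smul_inv_smul, smul_zero] at this
    rw [mul_smul, mul_smul, smul_sub]; exact this⟩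
  have haN : a ∈ N2 := fun v => by
    have := quad_pow hq ha v p
    rw [hap, one_smul, left_eq_add] at this
    exact this
  have hxN : x ^ p ∈ N1 := fun v hv => by
    rw [quad_pow hq hx v p, nsmul_sub, ← smul_comm, hv, smul_zero, sub_zero, add_zero]
  have hD2 := commutator_le_normal h hA N2 ha ha1 haN
  have hD1 := commutator_le_normal h hA N1 (pow_mem hx p) hxp hxN
  have hsum : ∀ k ∈ commutator X, ∀ l ∈ commutator X, ∀ v : V,
      (k * l) • v = k • v + (l • v - v) := by
    intro k hk l hl v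
    rw [mul_smul]
    conv_lhs => rw [← add_sub_cancel v (l • v), smul_add, hD1 hk _ (hD2 hl v)]
  refine no_small_commutator h hp ha ha1 hap (fun k hk l hl => ?_) (fun k hk => ?_)
  · refine inv_mul_eq_one.mp (hf _ fun v => ?_)
    rw [mul_smul, inv_smul_eq_iff, hsum k hk l hl, hsum l hl k hk]
    abel
  · refine hf _ fun v => ?_
    have : ∀ n : ℕ, k ^ n • v = v + n • (k • v - v) := by
      intro n
      induction n with
      | zero => simp
      | succ n ih =>
        rw [pow_succ', mul_smul, ih, smul_add, smul_comm k n (k • v - v),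
          hD1 hk _ (hD2 hk v), succ_nsmul]
        abel
    rw [this p, hD2 hk v, add_zero]

end Action

end Cfsg.Agent.RootGrp.Quadratic
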