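import Cfsg.Agent.Lib.RootGrp.Quadratic

/-! A rank one group with abelian unipotent subgroups acting quadratically on the left unipotent
subgroup, but not quadratically itself, is special. -/

set_option autoImplicit false

namespace Cfsg.Agent.RootGrp.Quadratic

open Cfsg Cfsg.Agent.RootGrp
open scoped commutatorElement

variable {X : Type*} [Group X] {A B : Subgroup X} {V : Type*} [AddCommGroup V] [DistribMulAction X V]

/-- `v` is fixed by every element of `S`. -/
def Fx (S : Subgroup X) (v : V) : Prop := ∀ s ∈ S, s • v = v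

theorem fx_conj {S : Subgroup X} {g : X} {v : V} :
    Fx (conjBy S g) v ↔ Fx S (g⁻¹ • v) := by
  constructor
  · intro h s hs
    have := h (g * s * g⁻¹) (mem_conjBy.mpr (by
      rw [show g⁻¹ * (g * s * g⁻¹) * g = s by group]; exact hs))
    rw [mul_smul, mul_smul] at this
    exact eq_inv_smul_iff.mpr this
  · intro h s hs
    have := h _ (mem_conjBy.mp hs)
    rw [mul_smul, mul_smul, smul_inv_smul, inv_smul_eq_iff, smul_inv_smul] at this
    exact this

theorem fx_top (h : A ⊔ B = ⊤) {v : V} (hA : Fx A v) (hB : Fx B v) : ∀ g : X, g • v = v := by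
  intro g
  have : A ⊔ B ≤ MulAction.stabilizer X v :=
    sup_le (fun s hs => hA s hs) (fun s hs => hB s hs)
  exact this (h.ge (Subgroup.mem_top g))

theorem special (h : IsRankOneGroup X A B) (hA : ∀ x ∈ A, ∀ y ∈ A, x * y = y * x)
    (hq : ∀ a ∈ A, ∀ a' ∈ A, ∀ v : V, a' • (a • v - v) = a • v - v)
    (hX : ∃ x y : X, ∃ v : V, y • (x • v - v) ≠ x • v - v) : IsSpecialRankOnePair A B := by
  obtain ⟨g, -, hg⟩ := exists_conj_right h.2
  have hqA : ∀ a ∈ A, ∀ v : V, Fx A (a • v - v) := fun a ha v a' ha' => hq a ha a' ha' v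
  have hqB : ∀ b ∈ B, ∀ v : V, Fx B (b • v - v) := by
    intro b hb v
    rw [← hg, fx_conj, smul_sub]
    rw [← hg, mem_conjBy] at hb
    have := hqA _ hb (g⁻¹ • v)
    rwa [mul_smul, mul_smul, smul_inv_smul] at this
  refine ⟨h.2, fun a ha ha1 b hb hb1 e => ?_⟩
  set c := b⁻¹ with hc
  have hcB : c ∈ B := inv_mem hb
  have hbc : b = c⁻¹ := by rw [hc, inv_inv]
  rw [hbc]
  -- the two commutators land in the fixed points
  have key : ∀ w : V, ∀ k : X, k • ((a * c * a) • w - (c * a * c) • w) =
      (a * c * a) • w - (c * a * c) • w := by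
    intro w
    obtain ⟨v, hv⟩ : ∃ v, v = a • w - w := ⟨_, rfl⟩
    obtain ⟨v', hv'⟩ : ∃ v', v' = c • w - w := ⟨_, rfl⟩
    have hvA : Fx A v := hv ▸ hqA a ha w
    have hvB : Fx B v' := hv' ▸ hqB c hcB w
    have hav : a • v = v := hvA a ha
    have hcv' : c • v' = v' := hvB c hcB
    -- first
    obtain ⟨u, hu⟩ : ∃ u, u = a • c • v - c • v + v := ⟨_, rfl⟩
    have huA : Fx A u := fun s hs => by
      rw [hu, smul_add, hqA a ha (c • v) s hs, hvA s hs]
    have hcu : c • u = u := by
      have h1 : Fx B (a • c • v) := by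
        have h0 : Fx (conjBy A c) (c • v) := by rw [fx_conj, inv_smul_smul]; exact hvA
        rw [e, fx_conj, inv_inv] at h0
        exact h0
      have h2 := hqB c hcB v c hcB
      rw [smul_sub] at h2
      rw [hu, smul_add, smul_sub, h1 c hcB, sub_eq_iff_eq_add.mp h2]
      abel
    have huX : ∀ k : X, k • u = u := by
      refine fx_top h.1 huA ?_
      have h0 : Fx (conjBy A c) u := by
        rw [fx_conj, inv_smul_eq_iff.mpr hcu.symm]; exact huA
      rw [e, fx_conj, inv_inv, huA a ha] at h0
      exact h0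
    -- second
    obtain ⟨u', hu'⟩ : ∃ u', u' = c • a • v' - a • v' + v' := ⟨_, rfl⟩
    have huB : Fx B u' := fun s hs => by
      rw [hu', smul_add, hqB c hcB (a • v') s hs, hvB s hs]
    have hau : a • u' = u' := by
      have h0 : Fx (conjBy B a⁻¹) (a⁻¹ • v') := by rw [fx_conj, inv_smul_smul]; exact hvB
      rw [← e, fx_conj] at h0
      have h1 := h0 a ha
      have hinvc : ∀ y : V, c⁻¹ • y = y + y - c • y := by
        intro y
        have := hqB c hcB y c⁻¹ (inv_mem hcB)
        rw [smul_sub, inv_smul_smul, sub_eq_iff_eq_add] at this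
        calc c⁻¹ • y = (c • y - y + c⁻¹ • y) + y - c • y := by abel
          _ = _ := by rw [← this]
      have hinva : a⁻¹ • v' = v' + v' - a • v' := by
        have := hqA a ha v' a⁻¹ (inv_mem ha)
        rw [smul_sub, inv_smul_smul, sub_eq_iff_eq_add] at this
        calc a⁻¹ • v' = (a • v' - v' + a⁻¹ • v') + v' - a • v' := by abel
          _ = _ := by rw [← this]
      have hx : u' = c⁻¹ • a⁻¹ • v' + a • v' - v' := by
        rw [hinva, smul_sub, smul_add, inv_smul_eq_iff.mpr hcv'.symm, hinvc, hu']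
        abel
      have h2 := hqA a ha v' a ha
      rw [smul_sub] at h2
      rw [hx, smul_sub, smul_add, h1, sub_eq_iff_eq_add.mp h2]
      abel
    have huX' : ∀ k : X, k • u' = u' := by
      refine fx_top h.1 ?_ huB
      have h0 : Fx (conjBy B a⁻¹) u' := by
        rw [fx_conj, inv_inv, hau]; exact huB
      rw [← e, fx_conj, inv_smul_eq_iff.mpr (huB c hcB).symm] at h0
      exact h0
    intro k
    have hd : (a * c * a) • w - (c * a * c) • w = u - u' := by
      have e1 : a • w = w + v := by rw [hv]; abel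
      have e2 : c • w = w + v' := by rw [hv']; abel
      simp only [mul_smul, e1, e2, smul_add, hav, hcv', hu, hu']
      abel
    rw [hd, smul_sub, huX k, huX' k]
  by_contra hne
  let N1 : Subgroup X :=
    { carrier := {k | ∀ w : V, ∀ m : X, m • (k • w - w) = k • w - w}
      one_mem' := fun w m => by simp
      mul_mem' := fun {k l} hk hl w m => by
        rw [mul_smul, show k • l • w - w = (k • l • w - l • w) + (l • w - w) by abel, smul_add,
          hk _ m, hl w m]
      inv_mem' := fun {k} hk w m => by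
        have := hk (k⁻¹ • w) m
        rw [smul_inv_smul] at this
        rw [← neg_sub, smul_neg, this] }
  haveI : N1.Normal := ⟨fun k hk l w m => by
    have h0 := hk (l⁻¹ • w)
    rw [mul_smul, mul_smul, show l • k • l⁻¹ • w - w = k • l⁻¹ • w - l⁻¹ • w by
      rw [← h0 l, smul_sub, smul_inv_smul]]
    exact h0 m⟩
  -- a non-trivial element of `A` in `N1`
  set s := c * a * c⁻¹ with hs
  set t := a⁻¹ * c * a with ht
  have hsm : s ∈ conjBy A c := by
    rw [mem_conjBy, hs, show c⁻¹ * (c * a * c⁻¹) * c = a by group]; exact ha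
  have htm : t ∈ conjBy A c := by
    rw [e, mem_conjBy, ht, inv_inv, show a * (a⁻¹ * c * a) * a⁻¹ = c by group]; exact hcB
  have hq' : t⁻¹ * s ∈ N1 := by
    intro x m
    have hk := key (c⁻¹ • x)
    have e1 : (a * c * a) • c⁻¹ • x = a • s • x := by
      rw [smul_smul, smul_smul, hs]; congr 1; group
    have e2 : (c * a * c) • c⁻¹ • x = a • t • x := by
      rw [smul_smul, smul_smul, ht]; congr 1; group
    rw [e1, e2, ← smul_sub] at hk
    have h1 : a • (s • x - t • x) = s • x - t • x := by
      have := hk a⁻¹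
      rw [inv_smul_smul] at this
      exact this.symm
    rw [h1] at hk
    have h2 : t⁻¹ • (s • x - t • x) = s • x - t • x := hk t⁻¹
    rw [smul_sub, inv_smul_smul, ← mul_smul] at h2
    rw [h2]
    exact hk m
  have hz : c⁻¹ * (t⁻¹ * s) * c ∈ A := mem_conjBy.mp (mul_mem (inv_mem htm) hsm)
  have hz1 : c⁻¹ * (t⁻¹ * s) * c ≠ 1 := by
    intro h1
    apply hne
    show s = t
    exact (inv_mul_eq_one.mp (by simpa [mul_assoc] using congrArg (fun k => c * k * c⁻¹) h1)).symm
  have hN := commutator_le_normal h hA N1 hz hz1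
    (Subgroup.Normal.conj_mem' inferInstance _ hq' c)
  have hAN : A ≤ N1 := by
    intro x hx w
    have hk : ⁅g, x⁆ ∈ N1 :=
      hN (Subgroup.commutator_mem_commutator (Subgroup.mem_top g) (Subgroup.mem_top x))
    have hy : g * x * g⁻¹ ∈ B := by
      rw [← hg, mem_conjBy, show g⁻¹ * (g * x * g⁻¹) * g = x by group]; exact hx
    refine fx_top h.1 (hqA x hx w) fun s hs => ?_
    have h1 := hqB _ hy w s hs
    rw [show g * x * g⁻¹ = ⁅g, x⁆ * x by rw [commutatorElement_def]; group, mul_smul,
      show ⁅g, x⁆ • x • w - w = (⁅g, x⁆ • x • w - x • w) + (x • w - w) by abel, smul_add,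
      hk (x • w) s] at h1
    exact add_left_cancel h1
  have hBN : B ≤ N1 := by
    intro y hy
    rw [← hg, mem_conjBy] at hy
    have := Subgroup.Normal.conj_mem inferInstance _ (hAN hy) g
    rwa [show g * (g⁻¹ * y * g) * g⁻¹ = y by group] at this
  obtain ⟨x, y, v, hxy⟩ := hX
  exact hxy ((sup_le hAN hBN) (h.1.ge (Subgroup.mem_top x)) v y)

end Cfsg.Agent.RootGrp.Quadratic
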