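import Cfsg.Prelude.Def_RootSubgroups

/-!
Rank one groups: the action on the unipotent subgroups, and consequences for sets of abstract
root subgroups.
-/

set_option autoImplicit false

namespace Cfsg.Agent.RootGrp

open Cfsg
open scoped commutatorElement

variable {G : Type*} [Group G]

theorem mem_conjBy {A : Subgroup G} {g x : G} : x ∈ conjBy A g ↔ g⁻¹ * x * g ∈ A := by
  constructor
  · rintro ⟨y, hy, rfl⟩
    have : g⁻¹ * (g * y * g⁻¹) * g = y := by group
    show g⁻¹ * (g * y * g⁻¹) * g ∈ A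
    rw [this]; exact hy
  · intro h
    exact ⟨_, h, show g * (g⁻¹ * x * g) * g⁻¹ = x by group⟩

theorem conjBy_one (A : Subgroup G) : conjBy A 1 = A := by
  ext x; simp [mem_conjBy]

theorem conjBy_conjBy (A : Subgroup G) (g h : G) : conjBy (conjBy A g) h = conjBy A (h * g) := by
  ext x
  simp only [mem_conjBy, mul_inv_rev, mul_assoc]

theorem conjBy_inj {A B : Subgroup G} {g : G} (h : conjBy A g = conjBy B g) : A = B := by
  have := congrArg (fun C => conjBy C g⁻¹) h
  simpa [conjBy_conjBy, conjBy_one] using this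

theorem conjBy_eq_iff {A B : Subgroup G} {g : G} : conjBy A g = B ↔ A = conjBy B g⁻¹ := by
  constructor
  · rintro rfl; rw [conjBy_conjBy, inv_mul_cancel, conjBy_one]
  · rintro rfl; rw [conjBy_conjBy, mul_inv_cancel, conjBy_one]

theorem conjBy_of_mem {A : Subgroup G} {g : G} (hg : g ∈ A) : conjBy A g = A := by
  ext x
  rw [mem_conjBy]
  constructor
  · intro h
    have := mul_mem (mul_mem hg h) (inv_mem hg)
    rwa [show g * (g⁻¹ * x * g) * g⁻¹ = x by group] at this
  · intro h; exact mul_mem (mul_mem (inv_mem hg) h) hg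

theorem mem_normalizer_iff_conjBy {A : Subgroup G} {g : G} :
    g ∈ Subgroup.normalizer (A : Set G) ↔ conjBy A g = A := by
  rw [Subgroup.mem_normalizer_iff]
  constructor
  · intro h
    ext x
    rw [mem_conjBy, h (g⁻¹ * x * g)]
    rw [show g * (g⁻¹ * x * g) * g⁻¹ = x by group]
  · intro h x
    conv_rhs => rw [← h, mem_conjBy, show g⁻¹ * (g * x * g⁻¹) * g = x by group]

theorem conjBy_of_commute {A : Subgroup G} {g : G} (h : ∀ x ∈ A, g * x = x * g) :
    conjBy A g = A := by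
  ext x
  rw [mem_conjBy]
  constructor
  · intro hx
    have e := h _ hx
    have : x = g⁻¹ * x * g := by
      calc x = g * (g⁻¹ * x * g) * g⁻¹ := by group
        _ = g⁻¹ * x * g := by rw [e, mul_inv_cancel_right]
    exact this ▸ hx
  · intro hx
    rw [mul_assoc, ← h x hx, inv_mul_cancel_left]; exact hx

theorem commute_of_bot {A B : Subgroup G} (h : ⁅A, B⁆ = ⊥) {a b : G} (ha : a ∈ A) (hb : b ∈ B) :
    a * b = b * a := by
  have := Subgroup.commutator_mem_commutator ha hb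
  rw [h, Subgroup.mem_bot] at this
  exact commutatorElement_eq_one_iff_mul_comm.1 this

section Pair

variable {A B : Subgroup G} (h : IsRankOnePair A B)
include h

theorem left_ne_bot : A ≠ ⊥ := by
  intro e
  apply h.ne
  rw [e, eq_comm, Subgroup.eq_bot_iff_forall]
  intro b hb
  by_contra hb1
  obtain ⟨a, ha, ha1, -⟩ := h.cond_right b hb hb1
  rw [e, Subgroup.mem_bot] at ha
  exact ha1 ha

theorem exists_left : ∃ a ∈ A, a ≠ 1 := by
  by_contra hc
  push_neg at hc
  exact left_ne_bot h (Subgroup.eq_bot_iff_forall _ |>.2 hc)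

theorem eq_one_of_normalizes {a : G} (ha : a ∈ A) (hn : conjBy B a = B) : a = 1 := by
  by_contra ha1
  obtain ⟨b, hb, -, e⟩ := h.cond_left a ha ha1
  apply h.ne
  rw [← conjBy_eq_iff.1 hn] at e
  rw [conjBy_eq_iff, inv_inv] at e
  rw [e, conjBy_of_mem hb]

theorem eq_one_of_centralizes {a : G} (ha : a ∈ A) (hc : ∀ b ∈ B, a * b = b * a) : a = 1 :=
  eq_one_of_normalizes h ha (conjBy_of_commute hc)

theorem inf_eq_bot : A ⊓ B = ⊥ := by
  rw [Subgroup.eq_bot_iff_forall]
  exact fun a ha => eq_one_of_normalizes h ha.1 (conjBy_of_mem ha.2)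

theorem inf_normalizer : A ⊓ Subgroup.normalizer (B : Set G) = ⊥ := by
  rw [Subgroup.eq_bot_iff_forall]
  exact fun a ha => eq_one_of_normalizes h ha.1 (mem_normalizer_iff_conjBy.1 ha.2)

theorem unique_partner {b b' : G} (hb : b ∈ B) (hb' : b' ∈ B)
    (e : conjBy A b⁻¹ = conjBy A b'⁻¹) : b = b' := by
  have e' : conjBy A (b' * b⁻¹) = A := by
    rw [← conjBy_conjBy, e, conjBy_conjBy, mul_inv_cancel, conjBy_one]
  have := eq_one_of_normalizes (RankOnePair_symm h) (mul_mem hb' (inv_mem hb)) e'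
  exact (mul_inv_eq_one.1 this).symm

/-- The explicit description of the conjugates of `A`: `A` and the conjugates of `B` by `A`. -/
theorem unipotent_cases {C : Subgroup G} (hC : C ∈ unipotentSubgroups A B) :
    C = A ∨ ∃ a ∈ A, C = conjBy B a := by
  obtain ⟨x, hx, rfl⟩ := hC
  set S0 : Set (Subgroup G) := {C | C = A ∨ ∃ a ∈ A, C = conjBy B a}
  have hA : ∀ g ∈ A, ∀ C ∈ S0, conjBy C g ∈ S0 := by
    rintro g hg C (rfl | ⟨a, ha, rfl⟩)
    · exact Or.inl (conjBy_of_mem hg)
    · exact Or.inr ⟨g * a, mul_mem hg ha, conjBy_conjBy _ _ _⟩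
  have hB : ∀ g ∈ B, ∀ C ∈ S0, conjBy C g ∈ S0 := by
    have hAB : ∀ g ∈ B, conjBy A g ∈ S0 := by
      intro g hg
      by_cases hg1 : g = 1
      · rw [hg1, conjBy_one]; exact Or.inl rfl
      obtain ⟨a, ha, -, e⟩ := h.cond_right g⁻¹ (inv_mem hg) (inv_ne_one.2 hg1)
      rw [inv_inv] at e
      exact Or.inr ⟨a⁻¹, inv_mem ha, e.symm⟩
    rintro g hg C (rfl | ⟨a, ha, rfl⟩)
    · exact hAB g hg
    · by_cases ha1 : a = 1
      · rw [ha1, conjBy_one, conjBy_of_mem hg]; exact Or.inr ⟨1, one_mem _, (conjBy_one _).symm⟩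
      obtain ⟨b, hb, -, e⟩ := h.cond_left a⁻¹ (inv_mem ha) (inv_ne_one.2 ha1)
      rw [inv_inv] at e
      rw [← e, conjBy_conjBy]
      exact hAB _ (mul_mem hg (inv_mem hb))
  have key : ∀ g ∈ A ⊔ B, (∀ C ∈ S0, conjBy C g ∈ S0) ∧ (∀ C ∈ S0, conjBy C g⁻¹ ∈ S0) := by
    intro g hg
    rw [Subgroup.sup_eq_closure] at hg
    induction hg using Subgroup.closure_induction with
    | mem g hg =>
      rcases hg with hg | hg
      · exact ⟨hA g hg, hA g⁻¹ (inv_mem hg)⟩
      · exact ⟨hB g hg, hB g⁻¹ (inv_mem hg)⟩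
    | one => simp [conjBy_one]
    | mul g k _ _ ihg ihk =>
      refine ⟨fun C hC => ?_, fun C hC => ?_⟩
      · rw [← conjBy_conjBy]; exact ihg.1 _ (ihk.1 C hC)
      · rw [mul_inv_rev, ← conjBy_conjBy]; exact ihk.2 _ (ihg.2 C hC)
    | inv g _ ih => exact ⟨ih.2, by simpa using ih.1⟩
  exact (key x hx).1 A (Or.inl rfl)

theorem exists_conj_right : ∃ x ∈ A ⊔ B, conjBy A x = B := by
  obtain ⟨a, ha, ha1⟩ := exists_left h
  obtain ⟨b, hb, -, e⟩ := h.cond_left a ha ha1
  refine ⟨a * b⁻¹, mul_mem (Subgroup.mem_sup_left ha) (inv_mem (Subgroup.mem_sup_right hb)), ?_⟩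
  rw [← conjBy_conjBy, e, conjBy_conjBy, mul_inv_cancel, conjBy_one]

theorem left_mem : A ∈ unipotentSubgroups A B := ⟨1, one_mem _, (conjBy_one A).symm⟩

theorem right_mem : B ∈ unipotentSubgroups A B := by
  obtain ⟨x, hx, e⟩ := exists_conj_right h
  exact ⟨x, hx, e.symm⟩

theorem conj_mem_unipotent {C : Subgroup G} (hC : C ∈ unipotentSubgroups A B) {g : G}
    (hg : g ∈ A ⊔ B) : conjBy C g ∈ unipotentSubgroups A B := by
  obtain ⟨x, hx, rfl⟩ := hC
  exact ⟨g * x, mul_mem hg hx, conjBy_conjBy _ _ _⟩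

theorem unipotent_le {C : Subgroup G} (hC : C ∈ unipotentSubgroups A B) : C ≤ A ⊔ B := by
  obtain ⟨x, hx, rfl⟩ := hC
  intro y hy
  have := mul_mem (mul_mem hx (Subgroup.mem_sup_left (mem_conjBy.1 hy) : x⁻¹ * y * x ∈ A ⊔ B)) (inv_mem hx)
  rwa [show x * (x⁻¹ * y * x) * x⁻¹ = y by group] at this

/-- Two transitivity on the unipotent subgroups. -/
theorem exists_conj_pair {C D : Subgroup G} (hC : C ∈ unipotentSubgroups A B)
    (hD : D ∈ unipotentSubgroups A B) (hne : C ≠ D) :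
    ∃ x ∈ A ⊔ B, conjBy A x = C ∧ conjBy B x = D := by
  obtain ⟨x, hx, rfl⟩ := hC
  have hD' := conj_mem_unipotent h hD (inv_mem hx)
  rcases unipotent_cases h hD' with e | ⟨a, ha, e⟩
  · rw [conjBy_eq_iff, inv_inv] at e
    exact absurd e.symm hne
  · rw [conjBy_eq_iff, inv_inv, conjBy_conjBy] at e
    refine ⟨x * a, mul_mem hx (Subgroup.mem_sup_left ha), ?_, e.symm⟩
    rw [← conjBy_conjBy, conjBy_of_mem ha]

/-- An element of a unipotent subgroup normalising a different one is trivial. -/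
theorem eq_one_of_normalizes' {C D : Subgroup G} (hC : C ∈ unipotentSubgroups A B)
    (hD : D ∈ unipotentSubgroups A B) (hne : C ≠ D) {c : G} (hc : c ∈ C)
    (hn : conjBy D c = D) : c = 1 := by
  obtain ⟨x, hx, rfl, rfl⟩ := exists_conj_pair h hC hD hne
  have h2 : conjBy B (x⁻¹ * c * x) = B := by
    rw [← conjBy_conjBy, ← conjBy_conjBy, hn, conjBy_conjBy, inv_mul_cancel, conjBy_one]
  have := eq_one_of_normalizes h (mem_conjBy.1 hc) h2
  calc c = x * (x⁻¹ * c * x) * x⁻¹ := by group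
    _ = 1 := by rw [this, mul_one, mul_inv_cancel]

theorem not_commute_members {C D : Subgroup G} (hC : C ∈ unipotentSubgroups A B)
    (hD : D ∈ unipotentSubgroups A B) (hne : C ≠ D) : ¬ ∀ c ∈ C, ∀ d ∈ D, c * d = d * c := by
  intro hcomm
  obtain ⟨x, hx, rfl, rfl⟩ := exists_conj_pair h hC hD hne
  obtain ⟨a, ha, ha1⟩ := exists_left h
  have hc : x * a * x⁻¹ ∈ conjBy A x := ⟨a, ha, rfl⟩
  have := eq_one_of_normalizes' h hC hD hne hc (conjBy_of_commute (hcomm _ hc))
  exact ha1 (conj_eq_one_iff.1 this)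

end Pair

section RootSet

variable {S : Set (Subgroup G)} (hS : IsRootSubgroupSet S)
include hS

theorem mul_comm_of_mem {A : Subgroup G} (hA : A ∈ S) {x y : G} (hx : x ∈ A) (hy : y ∈ A) :
    x * y = y * x := congrArg Subtype.val ((hS.commutative A hA).is_comm.comm ⟨x, hx⟩ ⟨y, hy⟩)

/-- In the commutator case, an element whose commutators with `C` all lie in the commutator
subgroup moves `C` to a subgroup commuting elementwise with `C`. -/
theorem conj_commutes {C Z : Subgroup G} (hC : C ∈ S) (hZc : ∀ z ∈ Z, ∀ c ∈ C, z * c = c * z)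
    {g : G} (hg : ∀ c ∈ C, g * c * g⁻¹ * c⁻¹ ∈ Z) :
    ∀ u ∈ conjBy C g, ∀ c ∈ C, u * c = c * u := by
  rintro u ⟨v, hv, rfl⟩ c hc
  show g * v * g⁻¹ * c = c * (g * v * g⁻¹)
  have hz := hZc _ (hg v hv)
  have e : g * v * g⁻¹ = (g * v * g⁻¹ * v⁻¹) * v := by group
  rw [e, mul_assoc, mul_comm_of_mem hS hC hv hc, ← mul_assoc, hz c hc, mul_assoc]

theorem partner_of_not_isolated {A : Subgroup G} (hA : ¬ IsIsolatedIn (FAdj S) S A) (hAS : A ∈ S) :
    ∃ C ∈ S, IsRankOnePair A C := by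
  by_contra hc
  push_neg at hc
  exact hA ⟨hAS, fun B => ⟨fun e => hc B e.2.1 e.2.2, fun e => hc B e.1 (RankOnePair_symm e.2.2)⟩⟩

theorem not_isolated {A B : Subgroup G} (hA : A ∈ S) (hB : B ∈ S) (h : IsRankOnePair A B) :
    ¬ IsIsolatedIn (FAdj S) S A := fun hi => (hi.2 B).1 ⟨hA, hB, h⟩

theorem inf_bot_or_eq {A B : Subgroup G} (hA : ¬ IsIsolatedIn (FAdj S) S A) (hAS : A ∈ S) (hB : B ∈ S) :
    A ⊓ B = ⊥ ∨ A = B := by
  by_cases hbot : A ⊓ B = ⊥
  · exact Or.inl hbot
  right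
  obtain ⟨a, ⟨haA, haB⟩, ha1⟩ : ∃ a ∈ A ⊓ B, a ≠ 1 := by
    by_contra hc
    push_neg at hc
    exact hbot (Subgroup.eq_bot_iff_forall _ |>.2 hc)
  obtain ⟨C, hC, hAC⟩ := partner_of_not_isolated hS hA hAS
  rcases hS.pair B hB C hC with hc | hr | ⟨-, hcen, hgenl, -⟩
  · exact absurd (eq_one_of_centralizes hAC haA fun c hc' => commute_of_bot hc haB hc') ha1
  · obtain ⟨c, hcC, -, e⟩ := hAC.cond_left a haA ha1
    obtain ⟨c', hcC', -, e'⟩ := hr.cond_left a haB ha1
    rw [← e, conjBy_eq_iff, inv_inv, conjBy_conjBy] at e'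
    by_cases hd : c' * c⁻¹ = 1
    · rw [hd, conjBy_one] at e'; exact e'.symm
    exfalso
    have hBmem : B ∈ unipotentSubgroups A C :=
      ⟨c' * c⁻¹, Subgroup.mem_sup_right (mul_mem hcC' (inv_mem hcC)), e'⟩
    have hne : A ≠ B := fun eab => hd (eq_one_of_normalizes (RankOnePair_symm hAC)
      (mul_mem hcC' (inv_mem hcC)) (e'.symm.trans eab.symm))
    exact ha1 (eq_one_of_normalizes' hAC (left_mem hAC) hBmem hne haA (conjBy_of_mem haB))
  · exfalso
    have hle : ⁅B, C⁆ ≤ A ⊔ C := by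
      rw [← hgenl a haB ha1, Subgroup.closure_le]
      rintro _ ⟨c, hc, rfl⟩
      exact mul_mem (mul_mem (mul_mem (Subgroup.mem_sup_left haA) (Subgroup.mem_sup_right hc))
        (inv_mem (Subgroup.mem_sup_left haA))) (inv_mem (Subgroup.mem_sup_right hc))
    have hcomm := conj_commutes hS hC (Z := ⁅B, C⁆) (g := a)
      (fun z hz c hc => hcen z hz c (Subgroup.mem_sup_right hc))
      (fun c hc => Subgroup.commutator_mem_commutator haB hc)
    by_cases e : conjBy C a = C
    · exact ha1 (eq_one_of_normalizes hAC haA e)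
    · exact not_commute_members hAC (conj_mem_unipotent hAC (right_mem hAC) (Subgroup.mem_sup_left haA))
        (right_mem hAC) e hcomm

/-- A nontrivial central translate of a root element is no root element. -/
theorem central_translate {A B : Subgroup G} (hA : A ∈ S) (hB : B ∈ S) (h : IsRankOnePair A B) {z : G}
    (hz : ∀ y ∈ A ⊔ B, y * z = z * y) (hz1 : z ≠ 1) {a : G} (ha : a ∈ A) (ha1 : a ≠ 1) :
    z * a ∉ rootElements S := by
  rintro ⟨hza1, C, hC, hzaC⟩
  have hzB : ∀ b ∈ B, b * z = z * b := fun b hb => hz b (Subgroup.mem_sup_right hb)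
  rcases hS.pair C hC B hB with hc | hr | ⟨-, hcen, -, -⟩
  · refine ha1 (eq_one_of_centralizes h ha fun b hb => ?_)
    apply mul_left_cancel (a := z)
    rw [← mul_assoc, commute_of_bot hc hzaC hb, ← mul_assoc, hzB b hb, mul_assoc]
  · obtain ⟨b, hb, -, e⟩ := h.cond_left a ha ha1
    obtain ⟨b', hb', -, e'⟩ := hr.cond_left (z * a) hzaC hza1
    have e2 : conjBy B (z * a)⁻¹ = conjBy B a⁻¹ := by
      rw [mul_inv_rev, ← conjBy_conjBy, conjBy_of_commute (g := z⁻¹)
        (fun x hx => ((show Commute x z from hzB x hx).inv_right).eq.symm)]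
    rw [e2, ← e, conjBy_eq_iff, inv_inv, conjBy_conjBy] at e'
    have hcommA : conjBy A (z * a) = A := conjBy_of_commute fun x hx => by
      rw [mul_assoc, mul_comm_of_mem hS hA ha hx, ← mul_assoc, ← hz x (Subgroup.mem_sup_left hx), mul_assoc]
    by_cases hd : b' * b⁻¹ = 1
    · rw [hd, conjBy_one] at e'
      have hzA : z ∈ A := by
        have := mul_mem (e' ▸ hzaC : z * a ∈ A) (inv_mem ha)
        rwa [mul_inv_cancel_right] at this
      exact hz1 (eq_one_of_centralizes h hzA fun b hb => (hzB b hb).symm)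
    · have hCmem : C ∈ unipotentSubgroups A B :=
        ⟨b' * b⁻¹, Subgroup.mem_sup_right (mul_mem hb' (inv_mem hb)), e'⟩
      have hne : C ≠ A := fun eca => hd (eq_one_of_normalizes (RankOnePair_symm h)
        (mul_mem hb' (inv_mem hb)) (e'.symm.trans eca))
      exact hza1 (eq_one_of_normalizes' h hCmem (left_mem h) hne hzaC hcommA)
  · have hcomm := conj_commutes hS hB (Z := ⁅C, B⁆) (g := a)
      (fun w hw b hb => hcen w hw b (Subgroup.mem_sup_right hb))
      (fun b hb => by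
        have hm := Subgroup.commutator_mem_commutator (h₁ := hzaC) (h₂ := hb)
        have e : a * b * a⁻¹ * b⁻¹ = ⁅z * a, b⁆ := by
          rw [commutatorElement_def, mul_inv_rev]
          calc a * b * a⁻¹ * b⁻¹ = (z * z⁻¹) * (a * b * a⁻¹) * b⁻¹ := by rw [mul_inv_cancel, one_mul]
            _ = z * ((a * b * a⁻¹) * z⁻¹) * b⁻¹ := by
              have hc : Commute (a * b * a⁻¹) z := hz _ (mul_mem (mul_mem (Subgroup.mem_sup_left ha)
                (Subgroup.mem_sup_right hb)) (inv_mem (Subgroup.mem_sup_left ha)))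
              rw [hc.inv_right.eq]; group
            _ = z * a * b * (a⁻¹ * z⁻¹) * b⁻¹ := by group
        exact e ▸ hm)
    by_cases e : conjBy B a = B
    · exact ha1 (eq_one_of_normalizes h ha e)
    · exact not_commute_members h (conj_mem_unipotent h (right_mem h) (Subgroup.mem_sup_left ha))
        (right_mem h) e hcomm

end RootSet

end Cfsg.Agent.RootGrp
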