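import Cfsg.Agent.Lib.RootGrp.RankOne
import Cfsg.Prelude.Def_CaseTheorems

/-! Multiples in special rank one groups with abelian unipotent subgroups. -/

set_option autoImplicit false

namespace Cfsg.Agent.RootGrp.Special

open Cfsg Cfsg.Agent.RootGrp

variable {X : Type*} [Group X] {A B : Subgroup X}

open Classical in
/-- The inverse of the partner of `a`. -/
noncomputable def F (hs : IsSpecialRankOnePair A B) (a : X) : X :=
  if h : a ∈ A ∧ a ≠ 1 then ((hs.1.cond_left a h.1 h.2).choose)⁻¹ else 1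

/-- The element interchanging the two unipotent subgroups. -/
noncomputable def nn (hs : IsSpecialRankOnePair A B) (a : X) : X := a * F hs a * a

section

variable (hs : IsSpecialRankOnePair A B)
include hs

theorem F_spec {a : X} (ha : a ∈ A) (h1 : a ≠ 1) :
    F hs a ∈ B ∧ F hs a ≠ 1 ∧ conjBy A (F hs a) = conjBy B a⁻¹ ∧
      a * F hs a * a = F hs a * a * F hs a := by
  classical
  have hsp := (hs.1.cond_left a ha h1).choose_spec
  set b := (hs.1.cond_left a ha h1).choose with hb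
  have hF : F hs a = b⁻¹ := by rw [F, dif_pos ⟨ha, h1⟩]
  obtain ⟨hb1, hb2, hb3⟩ := hsp
  have e := hs.2 a ha h1 b hb1 hb2 hb3
  rw [hF]
  refine ⟨inv_mem hb1, inv_ne_one.mpr hb2, hb3, ?_⟩
  have e2 : a * b⁻¹ * a * b = b⁻¹ * a := by
    calc a * b⁻¹ * a * b = a * (b⁻¹ * a * b) := by group
      _ = a * (a⁻¹ * b⁻¹ * a) := by rw [e]
      _ = _ := by group
  calc a * b⁻¹ * a = (a * b⁻¹ * a * b) * b⁻¹ := by group
    _ = _ := by rw [e2]

theorem F_unique {a b : X} (ha : a ∈ A) (h1 : a ≠ 1) (hb : b ∈ B)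
    (e : conjBy A b = conjBy B a⁻¹) : b = F hs a := by
  obtain ⟨h2, -, h3, -⟩ := F_spec hs ha h1
  have := unique_partner hs.1 (inv_mem hb) (inv_mem h2) (by rw [inv_inv, inv_inv, e, h3])
  exact inv_injective this

theorem point_inj {x y : X} (hx : x ∈ A) (hy : y ∈ A) (e : conjBy B x = conjBy B y) : x = y := by
  have e' : conjBy B (y⁻¹ * x) = B := by
    rw [← conjBy_conjBy, e, conjBy_conjBy, inv_mul_cancel, conjBy_one]
  exact (inv_mul_eq_one.mp (eq_one_of_normalizes hs.1 (mul_mem (inv_mem hy) hx) e')).symm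

theorem F_inj {x y : X} (hx : x ∈ A) (hx1 : x ≠ 1) (hy : y ∈ A) (hy1 : y ≠ 1)
    (e : F hs x = F hs y) : x = y := by
  have h1 := (F_spec hs hx hx1).2.2.1
  rw [e, (F_spec hs hy hy1).2.2.1] at h1
  exact inv_injective (point_inj hs (inv_mem hx) (inv_mem hy) h1.symm)

theorem nn_conj {a : X} (ha : a ∈ A) (h1 : a ≠ 1) :
    nn hs a * a * (nn hs a)⁻¹ = F hs a ∧ nn hs a * F hs a * (nn hs a)⁻¹ = a ∧
      conjBy A (nn hs a) = B ∧ conjBy B (nn hs a) = A := by
  obtain ⟨hc, hc1, hAc, hbr⟩ := F_spec hs ha h1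
  set c := F hs a with hc'
  have e1 : nn hs a * a * (nn hs a)⁻¹ = c := by
    have : nn hs a * a = c * nn hs a := by
      show a * c * a * a = c * (a * c * a)
      calc a * c * a * a = (c * a * c) * a := by rw [hbr]
        _ = _ := by group
    rw [this, mul_inv_cancel_right]
  have e2 : nn hs a * c * (nn hs a)⁻¹ = a := by
    have : nn hs a * c = a * nn hs a := by
      show a * c * a * c = a * (a * c * a)
      calc a * c * a * c = a * (c * a * c) := by group
        _ = _ := by rw [← hbr]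
    rw [this, mul_inv_cancel_right]
  have e3 : conjBy A (nn hs a) = B := by
    show conjBy A (a * c * a) = B
    rw [← conjBy_conjBy, conjBy_of_mem ha, ← conjBy_conjBy, hAc, conjBy_conjBy, mul_inv_cancel,
      conjBy_one]
  refine ⟨e1, e2, e3, ?_⟩
  have hmem : conjBy B (nn hs a) ∈ unipotentSubgroups A B :=
    conj_mem_unipotent hs.1 (right_mem hs.1) (mul_mem (mul_mem (Subgroup.mem_sup_left ha)
      (Subgroup.mem_sup_right hc)) (Subgroup.mem_sup_left ha))
  rcases unipotent_cases hs.1 hmem with h | ⟨x, hx, h⟩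
  · exact h
  · exfalso
    have hain : a ∈ conjBy B x := by
      refine h ▸ mem_conjBy.mpr ?_
      have : (nn hs a)⁻¹ * a * nn hs a = c := by
        conv_lhs => arg 1; arg 2; rw [← e2]
        group
      rw [this]; exact hc
    rw [mem_conjBy] at hain
    have hA' : x⁻¹ * a * x ∈ A ⊓ B := ⟨A.mul_mem (A.mul_mem (A.inv_mem hx) ha) hx, hain⟩
    rw [inf_eq_bot hs.1, Subgroup.mem_bot] at hA'
    apply h1
    calc a = x * (x⁻¹ * a * x) * x⁻¹ := by group
      _ = 1 := by rw [hA']; group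

theorem F_inv {a : X} (ha : a ∈ A) (h1 : a ≠ 1) : F hs a⁻¹ = (F hs a)⁻¹ := by
  obtain ⟨hc, -, -, -⟩ := F_spec hs ha h1
  obtain ⟨-, -, -, e4⟩ := nn_conj hs ha h1
  refine (F_unique hs (inv_mem ha) (inv_ne_one.mpr h1) (inv_mem hc) ?_).symm
  rw [inv_inv]
  have h5 : conjBy B (F hs a * a) = A := by
    have := congrArg (fun C => conjBy C a⁻¹) e4
    simp only [conjBy_conjBy] at this
    rw [conjBy_of_mem (inv_mem ha)] at this
    exact (congrArg (conjBy B) (show F hs a * a = a⁻¹ * (a * F hs a * a) by group)).trans this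
  rw [conjBy_eq_iff, inv_inv, conjBy_conjBy, h5]

variable (hA : ∀ x ∈ A, ∀ y ∈ A, x * y = y * x)

omit hs in
theorem mem_of {C D : Subgroup X} {g x : X} (e : conjBy C g = D) (h : g⁻¹ * x * g ∈ C) : x ∈ D := by
  rw [← e, mem_conjBy]; exact h

omit hs in
theorem mem_back {C D : Subgroup X} {g x : X} (e : conjBy C g = D) (h : x ∈ D) : g⁻¹ * x * g ∈ C := by
  rw [← e, mem_conjBy] at h; exact h

/-- Transport of the partner to `A`. -/
theorem h_mem {a x : X} (ha : a ∈ A) (h1 : a ≠ 1) (hx : x ∈ A) (hx1 : x ≠ 1) :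
    nn hs a * F hs x * (nn hs a)⁻¹ ∈ A ∧ nn hs a * F hs x * (nn hs a)⁻¹ ≠ 1 ∧
      conjBy (conjBy B x⁻¹) (nn hs a) = conjBy B (nn hs a * F hs x * (nn hs a)⁻¹) ∧
      F hs (nn hs a * F hs x * (nn hs a)⁻¹) = nn hs a * x * (nn hs a)⁻¹ := by
  obtain ⟨hb, hb1, hAb, -⟩ := F_spec hs hx hx1
  obtain ⟨-, -, e3, e4⟩ := nn_conj hs ha h1
  set n := nn hs a with hn
  set y := n * F hs x * n⁻¹ with hy
  have hyA : y ∈ A := by
    refine mem_of e4 ?_
    have : n⁻¹ * y * n = F hs x := by rw [hy]; group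
    rw [this]; exact hb
  have hy1 : y ≠ 1 := fun e => hb1 (by
    calc F hs x = n⁻¹ * y * n := by rw [hy]; group
      _ = 1 := by rw [e]; group)
  have hmove : conjBy (conjBy B x⁻¹) n = conjBy B y := by
    have h2 := congrArg (fun C => conjBy C y) e3
    simp only [conjBy_conjBy] at h2
    rw [← hAb, conjBy_conjBy, ← h2]
    congr 1
    rw [hy]; group
  refine ⟨hyA, hy1, hmove, (F_unique hs hyA hy1 ?_ ?_).symm⟩
  · refine mem_of e3 ?_
    have : n⁻¹ * (n * x * n⁻¹) * n = x := by group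
    rw [this]; exact hx
  · -- the image of the opposite point
    obtain ⟨-, -, -, -⟩ := F_spec hs (inv_mem hx) (inv_ne_one.mpr hx1)
    have hAb' : conjBy A (F hs x)⁻¹ = conjBy B x := by
      have := (F_spec hs (inv_mem hx) (inv_ne_one.mpr hx1)).2.2.1
      rwa [F_inv hs hx hx1, inv_inv] at this
    calc conjBy A (n * x * n⁻¹) = conjBy (conjBy B x) n := by
          have h2 := congrArg (fun C => conjBy C (n * x * n⁻¹)) e4
          simp only [conjBy_conjBy] at h2
          rw [← h2, conjBy_conjBy]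
          congr 1
          group
      _ = conjBy (conjBy A (F hs x)⁻¹) n := by rw [hAb']
      _ = conjBy B y⁻¹ := by
          have h2 := congrArg (fun C => conjBy C y⁻¹) e3
          simp only [conjBy_conjBy] at h2
          rw [← h2, conjBy_conjBy]
          congr 1
          rw [hy]; group

theorem pow_eq_one_F {a : X} (ha : a ∈ A) (h1 : a ≠ 1) (i : ℕ) :
    (F hs a) ^ i = 1 ↔ a ^ i = 1 := by
  obtain ⟨e1, -, -, -⟩ := nn_conj hs ha h1
  rw [← e1, conj_pow, conj_eq_one_iff]

omit hs in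
/-- `a` has no torsion below `k`. -/
def Good (a : X) (k : ℕ) : Prop := ∀ j, 1 ≤ j → j ≤ k → ∀ i : ℕ, a ^ (j * i) = 1 → a ^ i = 1

include hA in
theorem scale : ∀ k, 1 ≤ k → ∀ a ∈ A, a ≠ 1 → Good a (k - 1) → a ^ k ≠ 1 →
    (F hs (a ^ k)) ^ k = F hs a := by
  intro k hk
  induction k, hk using Nat.le_induction with
  | base => intro a _ _ _ _; simp
  | succ k hk ih =>
    intro a ha h1 hG hne
    rw [Nat.add_sub_cancel] at hG
    have hk1 : a ^ k ≠ 1 := fun e => h1 (by simpa using hG k hk le_rfl 1 (by simpa using e))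
    have hG' : Good a (k - 1) := fun j h1 h2 => hG j h1 (by omega)
    have hP := ih a ha h1 hG' hk1
    obtain ⟨e1, e2, e3, e4⟩ := nn_conj hs ha h1
    set n := nn hs a with hn
    have hakA : a ^ k ∈ A := pow_mem ha k
    obtain ⟨huA, hu1, -, hFu⟩ := h_mem hs ha h1 hakA hk1
    set u := n * F hs (a ^ k) * n⁻¹ with hu
    have huk : u ^ k = a := by rw [hu, conj_pow, hP, e2]
    have hFu' : F hs u = (F hs a) ^ k := by rw [hFu, ← e1, conj_pow]
    -- `u` is fixed by the square of `n`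
    have hnu : n * u * n⁻¹ = F hs (a ^ k) := by
      have hu'A : n⁻¹ * F hs (a ^ k) * n ∈ A := by
        have h := (F_spec hs hakA hk1).1
        exact mem_back e3 h
      set u' := n⁻¹ * F hs (a ^ k) * n with hu'
      have hu'1 : u' ≠ 1 := fun e => (F_spec hs hakA hk1).2.1 (by
        calc F hs (a ^ k) = n * u' * n⁻¹ := by rw [hu']; group
          _ = 1 := by rw [e]; group)
      obtain ⟨hb, hb1, -, hFb⟩ := h_mem hs ha h1 hu'A hu'1
      simp only [← hn] at hb hb1 hFb
      have hy : n * F hs u' * n⁻¹ = a ^ k := by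
        apply F_inj hs hb hb1 hakA hk1
        rw [hFb, hu']; group
      have e2' : n⁻¹ * a * n = F hs a := by
        conv_lhs => arg 1; arg 2; rw [← e2]
        group
      have : F hs u' = (F hs a) ^ k := by
        calc F hs u' = n⁻¹ * (n * F hs u' * n⁻¹) * n := by group
          _ = n⁻¹ * a ^ k * n := by rw [hy]
          _ = (n⁻¹ * a * n⁻¹⁻¹) ^ k := by rw [conj_pow, inv_inv]
          _ = _ := by rw [inv_inv, e2']
      have huu : u' = u := F_inj hs hu'A hu'1 huA hu1 (this.trans hFu'.symm)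
      calc n * u * n⁻¹ = n * u' * n⁻¹ := by rw [huu]
        _ = F hs (a ^ k) := by rw [hu']; group
    have huord : ∀ i : ℕ, u ^ i = 1 ↔ a ^ i = 1 := by
      intro i
      rw [hu, conj_pow, conj_eq_one_iff, pow_eq_one_F hs hakA hk1, ← pow_mul]
      exact ⟨fun e => hG k hk le_rfl i e, fun e => by rw [mul_comm, pow_mul, e, one_pow]⟩
    set y := u ^ (k + 1) with hy
    have hyA : y ∈ A := pow_mem huA _
    have hy1 : y ≠ 1 := fun e => hne ((huord _).mp e)
    have hyG : Good y (k - 1) := by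
      intro j hj1 hj2 i e
      rw [hy, ← pow_mul, huord] at e ⊢
      rw [show (k + 1) * (j * i) = j * ((k + 1) * i) by ring] at e
      exact hG j hj1 (by omega) _ e
    have hyk : y ^ k = a ^ (k + 1) := by rw [hy, ← pow_mul, mul_comm, pow_mul, huk]
    have hP2 := ih y hyA hy1 hyG (by rw [hyk]; exact hne)
    rw [hyk] at hP2
    have haxA : a ^ (k + 1) ∈ A := pow_mem ha _
    obtain ⟨hwA, hw1, hmove, -⟩ := h_mem hs ha h1 haxA hne
    set w := n * F hs (a ^ (k + 1)) * n⁻¹ with hw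
    have hwk : w ^ k = n * F hs y * n⁻¹ := by rw [hw, conj_pow, hP2]
    -- the two expressions for the image of a point
    have hc : F hs a = a⁻¹ * n * a⁻¹ := by
      show F hs a = a⁻¹ * (a * F hs a * a) * a⁻¹
      group
    have hleft : conjBy (conjBy B w) (F hs a) = conjBy B (n * F hs (a ^ k) * n⁻¹) := by
      rw [← hmove, conjBy_conjBy _ n]
      have : F hs a * n = n * a := by rw [← e1]; group
      rw [this, conjBy_conjBy, ← (h_mem hs ha h1 hakA hk1).2.2.1, conjBy_conjBy]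
      congr 1
      rw [pow_succ, hn]
      group
    have hz : a * w⁻¹ ∈ A := mul_mem ha (inv_mem hwA)
    have hz1 : a * w⁻¹ ≠ 1 := by
      intro e
      rw [mul_inv_eq_one] at e
      rw [← e, hc, conjBy_conjBy] at hleft
      have : conjBy B (a⁻¹ * n * a⁻¹ * a) = A := by
        rw [inv_mul_cancel_right, ← conjBy_conjBy, e4, conjBy_of_mem (inv_mem ha)]
      rw [this] at hleft
      have hBA : B = A := by
        rw [conjBy_eq_iff.mp hleft.symm, conjBy_of_mem (inv_mem huA)]
      exact hs.1.ne hBA.symm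
    obtain ⟨hvA, -, hmove2, hFv⟩ := h_mem hs ha h1 hz hz1
    set v := n * F hs (a * w⁻¹) * n⁻¹ with hv
    have hright : conjBy (conjBy B w) (F hs a) = conjBy B (a⁻¹ * v) := by
      rw [← conjBy_conjBy B v a⁻¹, ← hmove2, hc, conjBy_conjBy, conjBy_conjBy, conjBy_conjBy]
      congr 1
      rw [hA a ha w⁻¹ (inv_mem hwA), hn]
      group
    have hva : v = y := by
      have := point_inj hs huA (mul_mem (inv_mem ha) hvA) (hleft.symm.trans hright)
      rw [hy, pow_succ', hA u huA _ (pow_mem huA k), huk, ← mul_inv_cancel_left a v, ← this]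
    -- comparison
    have hny : n * y * n⁻¹ = n⁻¹ * y * n := by
      have h0 : n⁻¹ * u * n = F hs (a ^ k) := by rw [hu]; group
      calc n * y * n⁻¹ = (n * u * n⁻¹) ^ (k + 1) := by rw [hy]; exact conj_pow.symm
        _ = (n⁻¹ * u * n⁻¹⁻¹) ^ (k + 1) := by rw [hnu, inv_inv, h0]
        _ = _ := by rw [conj_pow, inv_inv, hy]
    obtain ⟨hzA', hz1', -, hFz⟩ := h_mem hs ha h1 hyA hy1
    have hfix : F hs (n * F hs y * n⁻¹) = F hs (a * w⁻¹) := by
      rw [hFz, hny]
      calc n⁻¹ * y * n = n⁻¹ * v * n := by rw [hva]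
        _ = _ := by rw [hv]; group
    have hkw : w ^ k = a * w⁻¹ := by
      rw [hwk]
      exact F_inj hs hzA' hz1' hz hz1 hfix
    have hfinal : w ^ (k + 1) = a := by rw [pow_succ, hkw, inv_mul_cancel_right]
    calc F hs (a ^ (k + 1)) ^ (k + 1) = (n⁻¹ * w * n⁻¹⁻¹) ^ (k + 1) := by
          rw [hw, inv_inv]; congr 1; group
      _ = n⁻¹ * a * n := by rw [conj_pow, inv_inv, hfinal]
      _ = F hs a := by
          conv_lhs => arg 1; arg 2; rw [← e2]
          group

omit hs in
theorem good_of_order {a : X} {k : ℕ} (h : ∀ l, l.Prime → l ∣ orderOf a → k < l) : Good a k := by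
  intro j hj1 hj2 i e
  rw [← orderOf_dvd_iff_pow_eq_one] at e ⊢
  have hco : Nat.Coprime (orderOf a) j := by
    refine Nat.coprime_of_dvd fun l hl h1 h2 => ?_
    have := h l hl h1
    have := Nat.le_of_dvd (by omega) h2
    omega
  exact hco.dvd_of_dvd_mul_left e

omit hs in
theorem good_of_infinite {a : X} (h : ¬ IsOfFinOrder a) (k : ℕ) : Good a k := by
  intro j hj1 _ i e
  rcases Nat.eq_zero_or_pos i with rfl | hi
  · exact pow_zero a
  · exact absurd (isOfFinOrder_iff_pow_eq_one.mpr ⟨j * i, Nat.mul_pos (by omega) hi, e⟩) h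

include hA in
theorem order_prime {a : X} (ha : a ∈ A) (h1 : a ≠ 1) (hf : IsOfFinOrder a) :
    (orderOf a).Prime := by
  have hr : orderOf a ≠ 1 := fun e => h1 (orderOf_eq_one_iff.mp e)
  set p := (orderOf a).minFac with hp
  have hpp : p.Prime := Nat.minFac_prime hr
  by_contra hn
  have hne : a ^ p ≠ 1 := by
    intro e
    have := orderOf_dvd_of_pow_eq_one e
    rcases (Nat.dvd_prime hpp).mp this with h | h
    · exact hr h
    · exact hn (h ▸ hpp)
  have hG : Good a (p - 1) := good_of_order fun l hl hd => by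
    have := Nat.minFac_le_of_dvd hl.two_le hd
    have := hpp.two_le
    omega
  have h := scale hs hA p hpp.one_lt.le a ha h1 hG hne
  obtain ⟨q, hq⟩ : p ∣ orderOf a := Nat.minFac_dvd _
  have h2 : (F hs (a ^ p)) ^ q = 1 := by
    rw [pow_eq_one_F hs (pow_mem ha p) hne, ← pow_mul, ← hq, pow_orderOf_eq_one]
  have h3 : (F hs a) ^ q = 1 := by rw [← h, ← pow_mul, mul_comm, pow_mul, h2, one_pow]
  rw [pow_eq_one_F hs ha h1, ← orderOf_dvd_iff_pow_eq_one] at h3
  have hq0 : 0 < q := by
    rcases Nat.eq_zero_or_pos q with rfl | h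
    · rw [mul_zero] at hq; exact absurd hq hf.orderOf_pos.ne'
    · exact h
  have := Nat.le_of_dvd hq0 h3
  rw [hq] at this
  have := Nat.mul_le_mul_right q hpp.two_le
  omega

include hA in
/-- Either prime exponent, or divisible without torsion. -/
theorem dichotomy :
    (∃ p : ℕ, p.Prime ∧ ∀ a ∈ A, a ^ p = 1) ∨
    ((∀ a ∈ A, a ≠ 1 → ¬ IsOfFinOrder a) ∧ ∀ a ∈ A, ∀ n : ℕ, 0 < n → ∃ c ∈ A, c ^ n = a) := by
  by_cases htor : ∃ a ∈ A, a ≠ 1 ∧ IsOfFinOrder a
  · left
    obtain ⟨a, ha, h1, hf⟩ := htor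
    classical
    have hex : ∃ p, ∃ a ∈ A, a ≠ 1 ∧ IsOfFinOrder a ∧ orderOf a = p :=
      ⟨_, a, ha, h1, hf, rfl⟩
    obtain ⟨a, ha, h1, hf, hord⟩ := Nat.find_spec hex
    set p := Nat.find hex with hpdef
    have hpp : p.Prime := hord ▸ order_prime hs hA ha h1 hf
    have hap : a ^ p = 1 := by rw [← hord]; exact pow_orderOf_eq_one a
    refine ⟨p, hpp, fun y hy => ?_⟩
    by_contra hyp
    have hy1 : y ≠ 1 := fun e => hyp (by rw [e, one_pow])
    have hay : (a * y) ^ p = y ^ p := by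
      rw [(show Commute a y from hA a ha y hy).mul_pow, hap, one_mul]
    have hayA : a * y ∈ A := mul_mem ha hy
    have hay1 : a * y ≠ 1 := fun e => hyp (by rw [← hay, e, one_pow])
    have hGood : ∀ z ∈ A, z ≠ 1 → Good z (p - 1) := by
      intro z hz hz1
      by_cases hzf : IsOfFinOrder z
      · refine good_of_order fun l hl hd => ?_
        have hzp := order_prime hs hA hz hz1 hzf
        have : p ≤ orderOf z := Nat.find_min' hex ⟨z, hz, hz1, hzf, rfl⟩
        rw [(Nat.prime_dvd_prime_iff_eq hl hzp).mp hd]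
        have := hpp.two_le
        omega
      · exact good_of_infinite hzf _
    have e1 := scale hs hA p hpp.one_lt.le y hy hy1 (hGood y hy hy1) hyp
    have e2 := scale hs hA p hpp.one_lt.le (a * y) hayA hay1 (hGood _ hayA hay1)
      (by rw [hay]; exact hyp)
    rw [hay, e1] at e2
    exact h1 (mul_eq_right.mp (F_inj hs hy hy1 hayA hay1 e2).symm)
  · right
    push Not at htor
    refine ⟨htor, fun a ha n hn => ?_⟩
    by_cases h1 : a = 1
    · exact ⟨1, one_mem A, by rw [one_pow, h1]⟩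
    have hinf := htor a ha h1
    have hne : a ^ n ≠ 1 := fun e => hinf (isOfFinOrder_iff_pow_eq_one.mpr ⟨n, hn, e⟩)
    refine ⟨_, (h_mem hs ha h1 (pow_mem ha n) hne).1, ?_⟩
    rw [conj_pow, scale hs hA n hn a ha h1 (good_of_infinite hinf _) hne]
    exact (nn_conj hs ha h1).2.1

end

end Cfsg.Agent.RootGrp.Special
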